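import Groth.Agent.L22.Chern.DualClass
import Groth.Agent.L22.Chern.Whitney
import Groth.Agent.L22.Adjunction.Det
import Groth.Agent.L22.Adjunction.DetLine
import Groth.Agent.L12.Kvb.Lambda
import Groth.Agent.L12.ExtSh.Pullback
import Groth.Agent.L12.ExtSh.Unique

/-!
The first Chern class is the class of the determinant.
-/

set_option autoImplicit false
set_option linter.style.haveILetI false
set_option linter.unusedSectionVars false
set_option maxHeartbeats 800000
set_option backward.isDefEq.respectTransparency.types false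
set_option backward.isDefEq.respectTransparency false

universe u

open CategoryTheory CategoryTheory.Limits AlgebraicGeometry TopologicalSpace
open Groth.L22.Chern

noncomputable section

namespace Groth.L22.ChernDet

theorem C_one_flag {X : Scheme.{u}} {δ : X → ℤ} [IsLocallyNoetherian X] (hX : Cyc.IsSetup X δ) {E : X.Modules}
    {ls : List X.Modules} (h : Flag E ls) :
    ∀ {r : ℕ} (hE : FlatMod.IsFinLocFreeOfRank r E), r = ls.length → ∀ {W : X.Modules},
      ExtPow.IsExtPow r E W → ∀ (hWi : PicF.IsInvertible W), C hX hE 1 = x1 hX.2.2 hWi := by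
  induction h with
  | @nil E hz =>
    intro r hE hr W hW hWi
    subst hr
    obtain ⟨e⟩ := Groth.L12.ExtSh.nonempty_iso_of_isExtPow hW (Groth.L12.Kvb.isExtPow_zero E)
    have hO : PicF.IsInvertible (Coh.structureModule X) :=
      Groth.L22.Bundle.isInvertible_of_one Groth.L19.ProjBdl.isFinLocFreeOfRank_one_structureModule
    rw [C_of_lt hX hE (by simp), x1_congr hX.2.2 hWi hO e, x1_structure hX.2.2 hO]
  | @cons L E F ls hL a b hab hex hF ih =>
    intro r hE hr W hW hWi
    subst hr
    have hEr : FlatMod.IsFinLocFreeOfRank (1 + ls.length) E := by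
      rw [Nat.add_comm]
      exact hE
    have hWr : ExtPow.IsExtPow (1 + ls.length) E W := by
      rw [Nat.add_comm]
      exact hW
    obtain ⟨LF, hLF, hLFi⟩ := Groth.L22.Adjunction.exists_isExtPow hF.rank
    let ε := (Scheme.Modules.pullbackId X).app E
    have hse : (ShortComplex.mk (a ≫ ε.inv) (ε.hom ≫ b) (by simp [hab])).ShortExact :=
      ShortComplex.shortExact_of_iso (ShortComplex.isoMk (S₁ := ShortComplex.mk a b hab)
        (S₂ := ShortComplex.mk (a ≫ ε.inv) (ε.hom ≫ b) (by simp [hab])) (Iso.refl _) ε.symm (Iso.refl _)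
        (by simp) (by simp)) hex
    obtain ⟨θ⟩ := Groth.L22.Adjunction.nonempty_det_iso (𝟙 X) hEr hWr
      (Groth.L12.FinCov.isFinLocFreeOfRank_one_of_isInvertible hL) (Groth.L12.Kvb.isExtPow_one L) hF.rank hLF
      (a ≫ ε.inv) (ε.hom ≫ b) (by simp [hab]) hse
    have e : W ≅ CohB1.tensorMod L LF := ((Scheme.Modules.pullbackId X).app W).symm ≪≫ θ
    rw [C_extend hX hE hF.rank hL a b hab hex 0, C_zero, mul_one, ih hF.rank rfl hLF hLFi,
      x1_congr hX.2.2 hWi (Groth.L18.GenLoc.isInvertible_tensor hL hLFi) e, x1_tensor, add_comm]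

/-- The first Chern class is the class of the determinant. -/
theorem C_one_eq {X : Scheme.{u}} {δ : X → ℤ} [IsLocallyNoetherian X] (hX : Cyc.IsSetup X δ) {E : X.Modules} {r : ℕ}
    (hE : FlatMod.IsFinLocFreeOfRank r E) {W : X.Modules} (hW : ExtPow.IsExtPow r E W) (hWi : PicF.IsInvertible W) :
    C hX hE 1 = x1 hX.2.2 hWi := by
  obtain ⟨R, ρ, d, δR, hρ, hRs, hcR, hSF⟩ := exists_split_one r hX hE
  haveI := hρ.proper
  haveI := hρ.flat
  haveI := hRs.1
  have hρs : Shift ρ δR δ (d : ℤ) := Groth.L22.Cyc.shift_of_deltaCompat ρ hρ.relDim hcR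
  obtain ⟨ls, hls, hfl⟩ := hSF.exists_flag
  have hER := rank_pullback ρ hE
  obtain ⟨W', hW', hW'i⟩ := Groth.L22.Adjunction.exists_isExtPow hER
  obtain ⟨e⟩ := Groth.L12.ExtSh.nonempty_pullback_extPow_iso ρ (Groth.L18.KRRAmple.isFinLocFree_of_rank hE) hW hW'
  have key : C hRs hER 1 = x1 hRs.2.2 (Groth.L18.Ample.isInvertible_pullback ρ hWi) := by
    rw [C_one_flag hRs hfl hER hls.symm hW' hW'i, x1_congr hRs.2.2 _ hW'i e]
  refine AddMonoidHom.ext fun x => pb_injective_of_inj ρ hX hRs hρ.inj hcR hρs ?_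
  rw [over'_C ρ hX hRs hρ.relDim hcR hE 1 x, over'_x1 hX.2.2 hRs.2.2 ρ hρs hWi x, key]

end Groth.L22.ChernDet
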